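import Groth.Agent.Lib.Lie3Mod.Main
import Mathlib.RingTheory.Flat.TorsionFree
import Mathlib.RingTheory.Localization.Basic
import Mathlib.RingTheory.Nilpotent.Basic
import Mathlib.RingTheory.MvPolynomial.Basic
import Mathlib.RingTheory.Ideal.MinimalPrime.Basic

namespace Groth.Agent.Lie3

open MvPolynomial Lie3Mod

set_option maxSynthPendingDepth 5

variable (A : Type*) [CommRing A]

/-- `A[g, i, c, L1, L2, L3][1/L1]` -/
abbrev Loc := Localization.Away (X 3 : MvPolynomial (Fin 6) A)

noncomputable def loc : MvPolynomial (Fin 6) A →+* Loc A := algebraMap _ _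

noncomputable def inv3 : Loc A := IsLocalization.Away.invSelf (S := Loc A) (X 3 : MvPolynomial (Fin 6) A)

lemma loc_mul_inv3 : loc A (X 3) * inv3 A = 1 := IsLocalization.Away.mul_invSelf _

noncomputable def hh : Loc A := (loc A (X 0) * loc A (X 4) - loc A (X 1) * loc A (X 5)) * inv3 A
noncomputable def bb : Loc A := loc A (X 4) + (loc A (X 1) * loc A (X 4) - loc A (X 2) * loc A (X 5)) * inv3 A

noncomputable def phiVal : Fin 9 → Loc A :=
  ![loc A (X 3) + loc A (X 1), bb A, loc A (X 2), loc A (X 5) - hh A,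
    (bb A * loc A (X 5) - hh A * loc A (X 4)) * inv3 A, loc A (X 4) - bb A, loc A (X 0), hh A, loc A (X 1)]

noncomputable def phi : D A →ₐ[A] Loc A := aeval (phiVal A)

noncomputable def tau : MvPolynomial (Fin 6) A →ₐ[A] D A := aeval ![X 6, X 8, X 2, L1 A, L2 A, L3 A]

variable {A}

lemma idI_le_ker_phi : idI A ≤ RingHom.ker (phi A) := by
  have h1 := loc_mul_inv3 A
  refine Ideal.span_le.2 fun x hx => ?_
  simp only [Set.mem_insert_iff, Set.mem_singleton_iff] at hx
  rcases hx with rfl | rfl | rfl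
  · simp [phi, phiVal, Q1, hh, bb]
    linear_combination (loc A (X 0) * loc A (X 4) - loc A (X 1) * loc A (X 5)) * h1
  · simp [phi, phiVal, Q2, hh, bb]
    linear_combination
      (-((loc A (X 4) + (loc A (X 1) * loc A (X 4) - loc A (X 2) * loc A (X 5)) * inv3 A) * loc A (X 5)
        - (loc A (X 0) * loc A (X 4) - loc A (X 1) * loc A (X 5)) * inv3 A * loc A (X 4))) * h1
  · simp [phi, phiVal, Q3, hh, bb]
    linear_combination (loc A (X 1) * loc A (X 4) - loc A (X 2) * loc A (X 5)) * h1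

lemma phi_L1 : phi A (L1 A) = loc A (X 3) := by simp [phi, phiVal, L1]

lemma phi_tau (y : MvPolynomial (Fin 6) A) : phi A (tau A y) = loc A y := by
  have : (phi A).comp (tau A) = IsScalarTower.toAlgHom A (MvPolynomial (Fin 6) A) (Loc A) := by
    refine algHom_ext fun j => ?_
    fin_cases j <;> simp [phi, tau, phiVal, loc, L1, L2, L3]
  exact AlgHom.congr_fun this y

variable (A) in
/-- elements that become reduced after multiplying by powers of `L1` -/
noncomputable def goodSet : Subalgebra A (D A) where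
  carrier := {x | ∃ k y, L1 A ^ k * x - tau A y ∈ idI A}
  algebraMap_mem' a := ⟨0, C a, by simp [tau]⟩
  add_mem' := by
    rintro x x' ⟨k, y, hy⟩ ⟨k', y', hy'⟩
    refine ⟨k + k', X 3 ^ k' * y + X 3 ^ k * y', ?_⟩
    have h3 : tau A (X 3) = L1 A := by simp [tau]
    rw [map_add, map_mul, map_mul, map_pow, map_pow, h3,
      show L1 A ^ (k + k') * (x + x') - (L1 A ^ k' * tau A y + L1 A ^ k * tau A y') =
        L1 A ^ k' * (L1 A ^ k * x - tau A y) + L1 A ^ k * (L1 A ^ k' * x' - tau A y') by ring]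
    exact add_mem (Ideal.mul_mem_left _ _ hy) (Ideal.mul_mem_left _ _ hy')
  mul_mem' := by
    rintro x x' ⟨k, y, hy⟩ ⟨k', y', hy'⟩
    refine ⟨k + k', y * y', ?_⟩
    rw [map_mul, show L1 A ^ (k + k') * (x * x') - tau A y * tau A y' =
        (L1 A ^ k * x) * (L1 A ^ k' * x' - tau A y') + tau A y' * (L1 A ^ k * x - tau A y) by ring]
    exact add_mem (Ideal.mul_mem_left _ _ hy') (Ideal.mul_mem_left _ _ hy)

lemma mem_goodSet (x : D A) : x ∈ goodSet A := by
  have hg : X 6 ∈ goodSet A := ⟨0, X 0, by simp [tau]⟩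
  have hi : X 8 ∈ goodSet A := ⟨0, X 1, by simp [tau]⟩
  have hc : X 2 ∈ goodSet A := ⟨0, X 2, by simp [tau]⟩
  have h1 : L1 A ∈ goodSet A := ⟨0, X 3, by simp [tau]⟩
  have h2 : L2 A ∈ goodSet A := ⟨0, X 4, by simp [tau]⟩
  have h3 : L3 A ∈ goodSet A := ⟨0, X 5, by simp [tau]⟩
  have sat : ∀ z, L1 A * z ∈ goodSet A → z ∈ goodSet A := by
    rintro z ⟨k, y, hy⟩
    exact ⟨k + 1, y, by rw [pow_succ, mul_assoc]; exact hy⟩
  have modI : ∀ z i, i ∈ idI A → z ∈ goodSet A → z + i ∈ goodSet A := by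
    rintro z i hi ⟨k, y, hy⟩
    refine ⟨k, y, ?_⟩
    rw [show L1 A ^ k * (z + i) - tau A y = L1 A ^ k * i + (L1 A ^ k * z - tau A y) by ring]
    exact add_mem (Ideal.mul_mem_left _ _ hi) hy
  have hh' : X 7 ∈ goodSet A := sat _ (by
    have := modI _ (Q1 A) (Ideal.subset_span (by simp)) (sub_mem (mul_mem hg h2) (mul_mem hi h3))
    convert this using 1
    simp [Q1, L1, L2, L3]; ring)
  have hb : X 1 ∈ goodSet A := sat _ (by
    have := modI _ (Q3 A) (Ideal.subset_span (by simp))
      (add_mem (mul_mem h2 h1) (sub_mem (mul_mem hi h2) (mul_mem hc h3)))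
    convert this using 1
    simp [Q3, L1, L2, L3]; ring)
  have he : X 4 ∈ goodSet A := sat _ (by
    have := modI _ (-Q2 A) (neg_mem (Ideal.subset_span (by simp)))
      (sub_mem (mul_mem hb h3) (mul_mem hh' h2))
    convert this using 1
    simp [Q2, L1, L2, L3]; ring)
  have hv : ∀ j : Fin 9, X j ∈ goodSet A := by
    intro j
    fin_cases j
    · convert add_mem h1 hi using 1; simp [L1]
    · exact hb
    · exact hc
    · convert sub_mem h3 hh' using 1; simp [L3]
    · exact he
    · convert sub_mem h2 hb using 1; simp [L2]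
    · exact hg
    · exact hh'
    · exact hi
  have : Algebra.adjoin A (Set.range (X : Fin 9 → D A)) ≤ goodSet A :=
    Algebra.adjoin_le (by rintro _ ⟨j, rfl⟩; exact hv j)
  rw [MvPolynomial.adjoin_range_X] at this
  exact this Algebra.mem_top

lemma loc_injective : Function.Injective (loc A) := by
  refine IsLocalization.injective (Loc A) (M := Submonoid.powers (X 3 : MvPolynomial (Fin 6) A)) ?_
  rw [Submonoid.powers_le]
  exact mem_nonZeroDivisors_iff_right.2 (nzd_X 3)

lemma ker_phi : RingHom.ker (phi A) = idJ A := by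
  apply le_antisymm
  · intro x hx
    obtain ⟨k, y, hy⟩ := mem_goodSet x
    have h0 : y = 0 := loc_injective (by
      have := idI_le_ker_phi hy
      rw [RingHom.mem_ker, map_sub, map_mul, RingHom.mem_ker.1 hx, mul_zero, zero_sub, neg_eq_zero, phi_tau] at this
      rw [this, map_zero])
    rw [h0, map_zero, sub_zero] at hy
    have hJ := idI_le_idJ hy
    clear hy
    induction k with
    | zero => simpa using hJ
    | succ k ih =>
      refine ih (mem_idJ_of_mul_L1_mem ?_)
      rwa [mul_comm, ← mul_assoc, ← pow_succ']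
  · intro x hx
    obtain ⟨i, hi, m, rfl⟩ := mem_idJ_iff.1 hx
    have hd : phi A (detM A) * phi A (L1 A) = 0 := by
      rw [← map_mul]; exact idI_le_ker_phi (detM_mul_mem (Ideal.subset_span (by simp)))
    have : phi A (detM A) = 0 := by
      rw [phi_L1] at hd
      calc phi A (detM A) = phi A (detM A) * (loc A (X 3) * inv3 A) := by rw [loc_mul_inv3, mul_one]
      _ = 0 := by rw [← mul_assoc, hd, zero_mul]
    rw [RingHom.mem_ker, map_add, map_mul, this, mul_zero, add_zero]
    exact RingHom.mem_ker.1 (idI_le_ker_phi hi)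

variable (A)

theorem idJ_isPrime [IsDomain A] : (idJ A).IsPrime := by
  haveI : IsDomain (Loc A) := IsLocalization.isDomain_localization
    (Submonoid.powers_le.2 (mem_nonZeroDivisors_iff_right.2 (nzd_X 3)))
  rw [← ker_phi]
  exact RingHom.ker_isPrime _

theorem idL_isPrime [IsDomain A] : (idL A).IsPrime := by
  rw [← ker_red]
  exact RingHom.ker_isPrime _

theorem idL_minimal [IsDomain A] : idL A ∈ (idI A).minimalPrimes := by
  refine ⟨⟨idL_isPrime A, idI_le_idL⟩, fun P hP hPL y hy => ?_⟩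
  have hd : detM A ∉ idL A := by
    rw [← ker_red, RingHom.mem_ker]
    exact fun h => one_ne_zero (nzd_red_detM A 1 (by rw [h, mul_zero]))
  exact (hP.1.mem_or_mem (hP.2 (detM_mul_mem hy))).resolve_left fun h => hd (hPL h)

theorem idJ_minimal [IsDomain A] : idJ A ∈ (idI A).minimalPrimes := by
  refine ⟨⟨idJ_isPrime A, idI_le_idJ⟩, fun P hP hPJ x hx => ?_⟩
  obtain ⟨i, hi, m, rfl⟩ := mem_idJ_iff.1 hx
  have hL : L1 A ∉ idJ A := by
    rw [← ker_phi, RingHom.mem_ker, phi_L1]
    intro h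
    exact X_ne_zero (R := A) (3 : Fin 6) (loc_injective (by rw [h, map_zero]))
  refine add_mem (hP.2 hi) (Ideal.mul_mem_left _ _ ?_)
  exact (hP.1.mem_or_mem (hP.2 (detM_mul_mem (Ideal.subset_span (by simp))))).resolve_right
    fun h => hL (hPJ h)

theorem idI_isRadical [IsDomain A] : (idI A).IsRadical := by
  intro x hx
  rw [← inf_idJ_idL]
  obtain ⟨n, hn⟩ := hx
  exact ⟨(idJ_isPrime A).mem_of_pow_mem n (idI_le_idJ hn), (idL_isPrime A).mem_of_pow_mem n (idI_le_idL hn)⟩

theorem intCast_mul_mem_idJ {n : ℤ} (hn : n ≠ 0) {x : D ℤ} (h : (n : D ℤ) * x ∈ idJ ℤ) : x ∈ idJ ℤ := by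
  rw [← ker_phi, RingHom.mem_ker] at h ⊢
  rw [map_mul, map_intCast, ← map_intCast (loc ℤ)] at h
  haveI : IsDomain (Loc ℤ) := IsLocalization.isDomain_localization
    (Submonoid.powers_le.2 (mem_nonZeroDivisors_iff_right.2 (nzd_X 3)))
  refine (mul_eq_zero.1 h).resolve_left fun h0 => hn ?_
  have := loc_injective (h0.trans (map_zero (loc ℤ)).symm)
  exact_mod_cast this

theorem intCast_mul_mem_idI {n : ℤ} (hn : n ≠ 0) {x : D ℤ} (h : (n : D ℤ) * x ∈ idI ℤ) : x ∈ idI ℤ := by
  rw [← inf_idJ_idL]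
  refine ⟨intCast_mul_mem_idJ hn (idI_le_idJ h), ?_⟩
  have := idI_le_idL h
  rw [SetLike.mem_coe, ← ker_red, RingHom.mem_ker]
  rw [← ker_red, RingHom.mem_ker, map_mul, map_intCast] at this
  exact (mul_eq_zero.1 this).resolve_left (Int.cast_ne_zero.2 hn)

theorem flat_quotient {I : Ideal (D ℤ)} (h : ∀ (n : ℤ) x, n ≠ 0 → (n : D ℤ) * x ∈ I → x ∈ I) :
    Module.Flat ℤ (D ℤ ⧸ I) := by
  haveI : Module.IsTorsionFree ℤ (D ℤ ⧸ I) := by
    refine Module.isTorsionFree_iff_smul_eq_zero.2 ?_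
    intro n x hnx
    obtain ⟨x, rfl⟩ := Ideal.Quotient.mk_surjective x
    by_contra hc
    push_neg at hc
    refine hc.2 (Ideal.Quotient.eq_zero_iff_mem.2 (h n x hc.1 ?_))
    rw [← Ideal.Quotient.eq_zero_iff_mem, map_mul, map_intCast, ← zsmul_eq_mul]
    exact hnx
  exact Module.Flat.flat_iff_torsion_eq_bot_of_isBezout.2 ((Submodule.isTorsionFree_iff_torsion_eq_bot).1 ‹_›)

end Groth.Agent.Lie3
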