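import Groth.Agent.Lib.Lie3Mod.Main
import Groth.Agent.Lib.RegLoc.Quotient
import Groth.Agent.Lib.TsenLang.Height
import Mathlib.RingTheory.RegularLocalRing.Polynomial
import Mathlib.RingTheory.KrullDimension.Regular
import Mathlib.RingTheory.Ideal.Height
import Mathlib.Algebra.MvPolynomial.PDeriv
import Mathlib.RingTheory.Localization.Integer

/-!
# A smooth point of the component `J` of the moduli of three-dimensional Lie algebras
-/

set_option maxHeartbeats 400000
set_option autoImplicit false

universe u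

open MvPolynomial IsLocalRing

namespace Groth.Agent.Lie3ModLib.LtPoint

variable {k : Type u} [Field k] {n : ℕ}

theorem ker_eval_eq_span (x : Fin n → k) :
    RingHom.ker (eval x) = Ideal.span (Set.range fun i => (X i - C (x i) : MvPolynomial (Fin n) k)) := by
  refine le_antisymm (fun p hp => ?_) (Ideal.span_le.2 (Set.range_subset_iff.2 fun i => by simp))
  suffices h : ∀ p, p - C (eval x p) ∈ Ideal.span (Set.range fun i => (X i - C (x i) : MvPolynomial (Fin n) k)) by
    have h2 := h p
    rwa [RingHom.mem_ker.1 hp, map_zero, sub_zero] at h2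
  intro p
  induction p using MvPolynomial.induction_on with
  | C r => simp
  | add p q hp hq =>
    rw [map_add, map_add, add_sub_add_comm]
    exact add_mem hp hq
  | mul_X p i hp =>
    have e : p * X i - C (eval x (p * X i)) =
        (p - C (eval x p)) * X i + C (eval x p) * (X i - C (x i)) := by
      rw [map_mul, eval_X, map_mul]; ring
    rw [e]
    exact add_mem (Ideal.mul_mem_right _ _ hp) (Ideal.mul_mem_left _ _ (Ideal.subset_span ⟨i, rfl⟩))

theorem le_height_ker_eval (x : Fin n → k) : (n : ℕ∞) ≤ (RingHom.ker (eval x)).height := by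
  classical
  let e : ℕ → MvPolynomial (Fin n) k →ₐ[k] MvPolynomial (Fin n) k := fun j =>
    aeval fun i => if (i : ℕ) < j then C (x i) else X i
  have heq : RingHom.ker (eval x) = RingHom.ker (e n).toRingHom := by
    have h : (e n).toRingHom = C.comp (eval x) := by
      apply MvPolynomial.ringHom_ext <;> intro <;> simp [e]
    ext p
    rw [h, RingHom.mem_ker, RingHom.mem_ker, RingHom.comp_apply, C_eq_zero]
  rw [heq]
  refine TsenLang.natCast_le_height_of_strictChain (fun j => RingHom.ker (e j).toRingHom)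
    (fun j _ => RingHom.ker_isPrime _) fun j hj => ?_
  have hcomp : (e (j + 1)).comp (e j) = e (j + 1) := by
    apply MvPolynomial.algHom_ext
    intro i
    simp only [AlgHom.comp_apply, e, aeval_X]
    split_ifs with h1 h2 <;> simp_all <;> omega
  refine lt_of_le_of_ne (fun p hp => ?_) fun h => ?_
  · rw [RingHom.mem_ker] at hp ⊢
    change e (j + 1) p = 0
    rw [← hcomp, AlgHom.comp_apply, show e j p = 0 from hp, map_zero]
  · have h1 : (X (⟨j, hj⟩ : Fin n) - C (x ⟨j, hj⟩) : MvPolynomial (Fin n) k) ∈ RingHom.ker (e (j + 1)).toRingHom := by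
      simp [e]
    rw [← h] at h1
    have h2 := congrArg (MvPolynomial.coeff (Finsupp.single (⟨j, hj⟩ : Fin n) 1)) (RingHom.mem_ker.1 h1)
    simp [e, MvPolynomial.coeff_X', MvPolynomial.coeff_C, Finsupp.single_eq_zero, eq_comm] at h2

theorem height_ker_eval (x : Fin n → k) : (RingHom.ker (eval x)).height = n := by
  refine le_antisymm ?_ (le_height_ker_eval x)
  refine (Ideal.height_le_spanFinrank _ (RingHom.ker_ne_top _)).trans (Nat.cast_le.2 ?_)
  rw [ker_eval_eq_span]
  refine (Submodule.spanFinrank_span_le_ncard_of_finite (Set.finite_range _)).trans ?_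
  rw [← Set.image_univ]
  exact (Set.ncard_image_le Set.finite_univ).trans (by simp)

theorem eval_pderiv_of_mem_sq (x : Fin n → k) {p : MvPolynomial (Fin n) k}
    (hp : p ∈ RingHom.ker (eval x) ^ 2) (j : Fin n) : eval x (pderiv j p) = 0 := by
  rw [pow_two] at hp
  refine Submodule.mul_induction_on hp (fun a ha b hb => ?_) (fun a b ha hb => by rw [map_add, map_add, ha, hb, add_zero])
  rw [pderiv_mul, map_add, map_mul, map_mul, RingHom.mem_ker.1 ha, RingHom.mem_ker.1 hb, mul_zero, zero_mul, add_zero]

/-- A rational point where `r` equations have independent differentials. -/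
theorem regular_at_point {r : ℕ} (x : Fin n → k) [(RingHom.ker (eval x)).IsPrime]
    (f : Fin r → MvPolynomial (Fin n) k) (hf : ∀ l, eval x (f l) = 0)
    (hind : ∀ b : Fin r → k, (∀ j, ∑ l, b l * eval x (pderiv j (f l)) = 0) → ∀ l, b l = 0) :
    IsRegularLocalRing (Localization.AtPrime (RingHom.ker (eval x)) ⧸
        (Ideal.span (Set.range f)).map (algebraMap _ (Localization.AtPrime (RingHom.ker (eval x))))) ∧
      ringKrullDim (Localization.AtPrime (RingHom.ker (eval x)) ⧸
        (Ideal.span (Set.range f)).map (algebraMap _ (Localization.AtPrime (RingHom.ker (eval x))))) + r = n := by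
  set q := RingHom.ker (eval x) with hq
  let R := Localization.AtPrime q
  haveI : IsRegularLocalRing R := IsRegularRing.isRegularLocalRing_localization q
  let F : Fin r → R := fun l => algebraMap _ R (f l)
  have hF : ∀ l, F l ∈ maximalIdeal R := fun l => by
    rw [← Localization.AtPrime.map_eq_maximalIdeal]
    exact Ideal.mem_map_of_mem _ (RingHom.mem_ker.2 (hf l))
  have hindep : ∀ a : Fin r → R, ∑ l, a l * F l ∈ maximalIdeal R ^ 2 → ∀ l, a l ∈ maximalIdeal R := by
    intro a ha
    classical
    obtain ⟨s, hs⟩ := IsLocalization.exist_integer_multiples q.primeCompl (Finset.univ : Finset (Fin r)) a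
    choose b hb using fun l => hs l (Finset.mem_univ l)
    have h1 : algebraMap _ R (∑ l, b l * f l) ∈ maximalIdeal R ^ 2 := by
      have e : algebraMap _ R (∑ l, b l * f l) = algebraMap _ R (s : MvPolynomial (Fin n) k) * ∑ l, a l * F l := by
        rw [map_sum, Finset.mul_sum]
        refine Finset.sum_congr rfl fun l _ => ?_
        rw [map_mul, hb l, Algebra.smul_def, mul_assoc]
      rw [e]
      exact Ideal.mul_mem_left _ _ ha
    rw [← Localization.AtPrime.map_eq_maximalIdeal, ← Ideal.map_pow,
      IsLocalization.algebraMap_mem_map_algebraMap_iff q.primeCompl] at h1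
    obtain ⟨m, hm, hmem⟩ := h1
    have hm0 : eval x m ≠ 0 := fun h => hm (RingHom.mem_ker.2 h)
    have h2 : ∀ j, ∑ l, eval x (b l) * eval x (pderiv j (f l)) = 0 := fun j => by
      have h3 := eval_pderiv_of_mem_sq x hmem j
      rw [pderiv_mul, map_add, map_mul, map_mul] at h3
      simp only [map_sum, map_mul, hf, mul_zero, Finset.sum_const_zero, zero_add, pderiv_mul, map_add] at h3
      exact (mul_eq_zero.1 h3).resolve_left hm0
    intro l
    have hbl : algebraMap _ R (b l) ∈ maximalIdeal R := by
      rw [← Localization.AtPrime.map_eq_maximalIdeal]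
      exact Ideal.mem_map_of_mem _ (RingHom.mem_ker.2 (hind _ h2 l))
    rw [hb l, Algebra.smul_def] at hbl
    exact ((IsLocalRing.maximalIdeal.isMaximal R).isPrime.mem_or_mem hbl).resolve_left fun h =>
      (IsLocalRing.mem_maximalIdeal _).1 h (IsLocalization.map_units R s)
  obtain ⟨hreg, hseq⟩ := RegLoc.regular_of_independent r R F hF hindep
  have hspan : Ideal.span (Set.range F) = (Ideal.span (Set.range f)).map (algebraMap _ R) := by
    rw [Ideal.map_span, ← Set.range_comp]; rfl
  have hlist : Ideal.ofList (List.ofFn F) = Ideal.span (Set.range F) := by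
    refine congrArg Ideal.span (Set.ext fun y => ?_)
    simp [List.mem_ofFn]
  refine ⟨IsRegularLocalRing.of_ringEquiv (R := R ⧸ Ideal.span (Set.range F)) (Ideal.quotEquivOfEq hspan), ?_⟩
  have hd := ringKrullDim_add_length_eq_ringKrullDim_of_isRegular (List.ofFn F) hseq
  rw [List.length_ofFn, hlist, hspan] at hd
  rw [hd, ← maximalIdeal_height_eq_ringKrullDim, ← IsLocalization.height_under q.primeCompl,
    IsLocalization.AtPrime.under_maximalIdeal R q]
  rw [show q.height = (n : ℕ∞) from height_ker_eval x]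
  rfl

open Lie3Mod

variable (t : k)

/-- The point `[x,y] = y, [x,z] = t z`. -/
def pt : Fin 9 → k := ![0, 1, 0, 0, 0, t, 0, 0, 0]

theorem eval_detM : eval (pt t) (detM k) = 0 := by simp [detM, pt]

theorem point_ring (q : Ideal (D k)) [q.IsPrime] (hc : q = RingHom.ker (eval (pt t))) :
    IsRegularLocalRing (Localization.AtPrime q ⧸ (idJ k).map (algebraMap _ (Localization.AtPrime q))) ∧
      ringKrullDim (Localization.AtPrime q ⧸ (idJ k).map (algebraMap _ (Localization.AtPrime q))) + (3 : ℕ) = (9 : ℕ) := by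
  subst hc
  haveI hp : (RingHom.ker (eval (pt t))).IsPrime := inferInstance
  set q := RingHom.ker (eval (pt t)) with hq
  have gen : ∀ g : Fin 3 → D k, (∀ l, g l ∈ idJ k) → (∀ y ∈ ({Q1 k, Q2 k, Q3 k, detM k} : Set (D k)),
      ∃ u, eval (pt t) u ≠ 0 ∧ u * y ∈ Ideal.span (Set.range g)) →
      (idJ k).map (algebraMap _ (Localization.AtPrime q)) =
        (Ideal.span (Set.range g)).map (algebraMap _ (Localization.AtPrime q)) := fun g hg hu => by
    refine le_antisymm ?_ (Ideal.map_mono (Ideal.span_le.2 (Set.range_subset_iff.2 hg)))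
    refine Ideal.map_le_iff_le_comap.2 (Ideal.span_le.2 fun y hy => ?_)
    obtain ⟨u, hu0, humem⟩ := hu y hy
    rw [SetLike.mem_coe, Ideal.mem_comap, IsLocalization.algebraMap_mem_map_algebraMap_iff q.primeCompl]
    exact ⟨u, fun h => hu0 (RingHom.mem_ker.1 h), humem⟩
  by_cases ht : t = 0
  · let f : Fin 3 → D k := ![Q1 k, Q2 k, Q3 k]
    have h0 : ∀ l, (1 : D k) * f l ∈ Ideal.span (Set.range f) := fun l => by
      rw [one_mul]; exact Ideal.subset_span ⟨l, rfl⟩
    rw [gen f (fun l => by fin_cases l <;> exact Ideal.subset_span (by simp [f])) ?_]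
    · exact regular_at_point (pt t) f (fun l => by fin_cases l <;> simp [f, Q1, Q2, Q3, pt])
        (fun b hb l => by
          have h6 := hb 6
          have h3 := hb 3
          have h8 := hb 8
          simp [f, Fin.sum_univ_three, Q1, Q2, Q3, pt, ht, pderiv_X] at h6 h3 h8
          fin_cases l <;> simp_all)
    intro y hy
    simp only [Set.mem_insert_iff, Set.mem_singleton_iff] at hy
    rcases hy with h | h | h | h
    · exact ⟨1, by simp, h ▸ h0 0⟩
    · exact ⟨1, by simp, h ▸ h0 1⟩
    · exact ⟨1, by simp, h ▸ h0 2⟩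
    · subst h
      refine ⟨L2 k, by simp [L2, pt, ht], ?_⟩
      have h1 := Lie3.detM_mul_mem (A := k) (Ideal.subset_span (by simp) : L2 k ∈ idL k)
      rw [mul_comm]
      refine Ideal.span_mono ?_ h1
      intro z hz
      simp only [Set.mem_insert_iff, Set.mem_singleton_iff] at hz
      rcases hz with h | h | h
      · exact ⟨0, h.symm⟩
      · exact ⟨1, h.symm⟩
      · exact ⟨2, h.symm⟩
  · let f : Fin 3 → D k := ![detM k, Q2 k, Q3 k]
    have h0 : ∀ l, (1 : D k) * f l ∈ Ideal.span (Set.range f) := fun l => by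
      rw [one_mul]; exact Ideal.subset_span ⟨l, rfl⟩
    rw [gen f (fun l => by fin_cases l <;> exact Ideal.subset_span (by simp [f])) ?_]
    · exact regular_at_point (pt t) f (fun l => by fin_cases l <;> simp [f, Q2, Q3, detM, pt])
        (fun b hb l => by
          have h6 := hb 6
          have h3 := hb 3
          have h8 := hb 8
          simp [f, Fin.sum_univ_three, Q2, Q3, detM, pt, ht, pderiv_X] at h6 h3 h8
          fin_cases l <;> simp_all)
    intro y hy
    simp only [Set.mem_insert_iff, Set.mem_singleton_iff] at hy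
    rcases hy with h | h | h | h
    · subst h
      refine ⟨X 4 * X 2 - X 5 * X 1, by simp [pt, ht], ?_⟩
      have e : (X 4 * X 2 - X 5 * X 1 : D k) * Q1 k = L2 k * f 0 +
          (-(X 7 * X 2 + X 8 * X 5)) * f 1 + (X 8 * X 4 + X 7 * X 1) * f 2 := by
        simp [f, detM, Q1, Q2, Q3, L2]
        ring
      rw [e]
      exact add_mem (add_mem (Ideal.mul_mem_left _ _ (Ideal.subset_span ⟨0, rfl⟩))
        (Ideal.mul_mem_left _ _ (Ideal.subset_span ⟨1, rfl⟩))) (Ideal.mul_mem_left _ _ (Ideal.subset_span ⟨2, rfl⟩))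
    · exact ⟨1, by simp, h ▸ h0 1⟩
    · exact ⟨1, by simp, h ▸ h0 2⟩
    · exact ⟨1, by simp, h ▸ h0 0⟩

theorem main (P : Ideal (Lie3Mod.D k ⧸ Lie3Mod.idJ k)) [P.IsPrime]
    (hP : P = Ideal.map (Ideal.Quotient.mk (Lie3Mod.idJ k))
      (Ideal.span ({X 0, X 1 - 1, X 2, X 3, X 4, X 5 - C t, X 6, X 7, X 8} : Set (Lie3Mod.D k)))) :
    IsRegularLocalRing (Localization.AtPrime P) ∧ ringKrullDim (Localization.AtPrime P) = 6 := by
  classical
  have hspan : Ideal.span ({X 0, X 1 - 1, X 2, X 3, X 4, X 5 - C t, X 6, X 7, X 8} : Set (Lie3Mod.D k)) =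
      RingHom.ker (eval (pt t)) := by
    rw [ker_eval_eq_span]
    refine congrArg Ideal.span (Set.ext fun y => ?_)
    constructor
    · intro hy
      simp only [Set.mem_insert_iff, Set.mem_singleton_iff] at hy
      rcases hy with h | h | h | h | h | h | h | h | h
      · exact ⟨0, by simp [h, pt]⟩
      · exact ⟨1, by simp [h, pt]⟩
      · exact ⟨2, by simp [h, pt]⟩
      · exact ⟨3, by simp [h, pt]⟩
      · exact ⟨4, by simp [h, pt]⟩
      · exact ⟨5, by simp [h, pt]⟩
      · exact ⟨6, by simp [h, pt]⟩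
      · exact ⟨7, by simp [h, pt]⟩
      · exact ⟨8, by simp [h, pt]⟩
    · rintro ⟨i, rfl⟩
      fin_cases i <;> simp [pt]
  have hJ : idJ k ≤ RingHom.ker (eval (pt t)) := by
    refine Ideal.span_le.2 fun y hy => ?_
    simp only [Set.mem_insert_iff, Set.mem_singleton_iff] at hy
    rcases hy with h | h | h | h <;> simp [h, Q1, Q2, Q3, detM, pt]
  have hc : P.comap (Ideal.Quotient.mk (idJ k)) = RingHom.ker (eval (pt t)) := by
    rw [hP, hspan, Ideal.comap_map_of_surjective _ Ideal.Quotient.mk_surjective]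
    change _ ⊔ RingHom.ker _ = _
    rw [Ideal.mk_ker]
    exact sup_eq_left.2 hJ
  obtain ⟨hr, hd⟩ := point_ring t (P.comap (Ideal.Quotient.mk (idJ k))) hc
  refine ⟨RegLoc.isRegularLocalRing_localization_quotient (idJ k) P, ?_⟩
  rw [← ringKrullDim_eq_of_ringEquiv (RegLoc.localizationQuotientEquiv (idJ k) P)]
  obtain ⟨m, hm⟩ := RegLoc.exists_dim_eq_nat (R := Localization.AtPrime (P.comap (Ideal.Quotient.mk (idJ k))) ⧸
    (idJ k).map (algebraMap _ (Localization.AtPrime (P.comap (Ideal.Quotient.mk (idJ k))))))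
  rw [hm] at hd ⊢
  norm_cast at hd ⊢
  omega

end Groth.Agent.Lie3ModLib.LtPoint
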