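import Mathlib.Algebra.Polynomial.Div
import Mathlib.Algebra.Polynomial.AlgebraMap
import Mathlib.RingTheory.Polynomial.Basic
import Mathlib.Tactic.Ring
import Mathlib.Tactic.LinearCombination

/-! Syzygies of `Y • u + X • v` for a 3×2 matrix `(u | v)` satisfying Hilbert–Burch and Koszul exactness. -/

namespace Groth.Agent.Lie3

open Polynomial

variable {S : Type*} [CommRing S]

/-- a triple -/
structure V (S : Type*) where
  x : S
  y : S
  z : S

@[ext] theorem V.ext' {p q : V S} (hx : p.x = q.x) (hy : p.y = q.y) (hz : p.z = q.z) : p = q := by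
  cases p; cases q; simp_all

def dot (p q : V S) : S := p.x * q.x + p.y * q.y + p.z * q.z
def cross (p q : V S) : V S :=
  ⟨p.y * q.z - p.z * q.y, p.z * q.x - p.x * q.z, p.x * q.y - p.y * q.x⟩
def sm (a : S) (p : V S) : V S := ⟨a * p.x, a * p.y, a * p.z⟩
def add' (p q : V S) : V S := ⟨p.x + q.x, p.y + q.y, p.z + q.z⟩
def sub' (p q : V S) : V S := ⟨p.x - q.x, p.y - q.y, p.z - q.z⟩
def vmap {T : Type*} [CommRing T] (f : S →+* T) (p : V S) : V T := ⟨f p.x, f p.y, f p.z⟩

/-- exactness at the middle of the Hilbert–Burch complex -/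
def HB (u v : V S) : Prop := ∀ α : V S, dot α u = 0 → dot α v = 0 → ∃ δ, α = sm δ (cross u v)
/-- Koszul exactness for a triple -/
def Kos (u : V S) : Prop := ∀ α : V S, dot α u = 0 → ∃ p, α = cross u p

lemma dot_map {T : Type*} [CommRing T] (f : S →+* T) (p q : V S) :
    dot (vmap f p) (vmap f q) = f (dot p q) := by simp [dot, vmap]

/-- coefficient of a triple of polynomials -/
noncomputable def vcoeff (n : ℕ) (α : V S[X]) : V S := ⟨α.x.coeff n, α.y.coeff n, α.z.coeff n⟩

lemma dot_vcoeff (n : ℕ) (α : V S[X]) (u : V S) :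
    dot (vcoeff n α) u = (dot α (vmap C u)).coeff n := by simp [dot, vcoeff, vmap]

lemma kos_of_seq {x y z : S} (hx : ∀ a, a * x = 0 → a = 0)
    (hy : ∀ a, x ∣ a * y → x ∣ a)
    (hz : ∀ a, (∃ s t, a * z = s * x + t * y) → ∃ s t, a = s * x + t * y) :
    Kos (⟨x, y, z⟩ : V S) := by
  rintro ⟨a1, a2, a3⟩ h
  simp only [dot] at h
  obtain ⟨s, t, hst⟩ := hz a3 ⟨-a1, -a2, by linear_combination h⟩
  obtain ⟨r, hr⟩ := hy (a2 + t * z) ⟨-(a1 + s * z), by rw [hst] at h; linear_combination h⟩
  have h1 : a1 + s * z + r * y = 0 := hx _ (by rw [hst] at h; linear_combination h - y * hr)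
  refine ⟨⟨-t, s, -r⟩ , V.ext' ?_ ?_ ?_⟩ <;> simp only [cross]
  · linear_combination h1
  · linear_combination hr
  · linear_combination hst

lemma hb_of_pair {u v : V S} (h2 : ∀ a, a * (cross u v).y = 0 → a = 0)
    (h1 : ∀ a, (cross u v).y ∣ a * (cross u v).x → (cross u v).y ∣ a) : HB u v := by
  rintro ⟨a1, a2, a3⟩ hu hv
  simp only [dot] at hu hv
  have e12 : a2 * (cross u v).x = a1 * (cross u v).y := by
    simp only [cross]; linear_combination v.z * hu - u.z * hv
  have e23 : a3 * (cross u v).y = a2 * (cross u v).z := by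
    simp only [cross]; linear_combination v.x * hu - u.x * hv
  obtain ⟨δ, hδ⟩ := h1 a2 ⟨a1, by rw [e12, mul_comm]⟩
  refine ⟨δ, V.ext' ?_ ?_ ?_⟩ <;> simp only [sm]
  · refine sub_eq_zero.1 (h2 _ ?_)
    rw [hδ] at e12; linear_combination -e12
  · rw [hδ, mul_comm]
  · refine sub_eq_zero.1 (h2 _ ?_)
    rw [hδ] at e23; linear_combination e23

lemma hb_poly {u v : V S} (h : HB u v) : HB (vmap (C : S →+* S[X]) u) (vmap C v) := by
  intro α hu hv
  have key : ∀ n, ∃ δ, vcoeff n α = sm δ (cross u v) := fun n =>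
    h _ (by rw [dot_vcoeff, hu, coeff_zero]) (by rw [dot_vcoeff, hv, coeff_zero])
  -- collect the coefficients
  choose δ hδ using key
  classical
  let N := max α.x.natDegree (max α.y.natDegree α.z.natDegree)
  refine ⟨∑ n ∈ Finset.range (N + 1), monomial n (δ n), ?_⟩
  have hc : ∀ (f : S[X]) (s : S), f.natDegree ≤ N → (∀ n, f.coeff n = δ n * s) →
      f = (∑ n ∈ Finset.range (N + 1), monomial n (δ n)) * C s := by
    intro f s hd hf
    ext n
    rw [coeff_mul_C, finsetSum_coeff]
    simp only [coeff_monomial, Finset.sum_ite_eq', Finset.mem_range]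
    split_ifs with hn
    · exact hf n
    · rw [zero_mul, coeff_eq_zero_of_natDegree_lt (by omega)]
  refine V.ext' ?_ ?_ ?_
  · rw [hc α.x (cross u v).x (le_max_left _ _) (fun n => congrArg V.x (hδ n))]
    simp [sm, cross, vmap]
  · rw [hc α.y (cross u v).y ((le_max_left _ _).trans (le_max_right _ _)) (fun n => congrArg V.y (hδ n))]
    simp [sm, cross, vmap]
  · rw [hc α.z (cross u v).z ((le_max_right _ _).trans (le_max_right _ _)) (fun n => congrArg V.z (hδ n))]
    simp [sm, cross, vmap]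

lemma exists_add_X_mul (f : S[X]) : ∃ g, f = C (f.coeff 0) + X * g :=
  ⟨f.divX, by rw [add_comm]; exact (X_mul_divX_add f).symm⟩

lemma exists_vdecomp (α : V S[X]) : ∃ β, α = add' (vmap C (vcoeff 0 α)) (sm X β) := by
  obtain ⟨a, ha⟩ := exists_add_X_mul α.x
  obtain ⟨b, hb⟩ := exists_add_X_mul α.y
  obtain ⟨c, hc⟩ := exists_add_X_mul α.z
  exact ⟨⟨a, b, c⟩, V.ext' ha hb hc⟩

/-- stage one: in `S[Y]`, `α·u = 0` and `α·v = Yγ` force `γ` into the ideal of minors. -/
lemma stage1 {u v : V S} (hhb : HB u v) (hk : Kos u) (α : V S[X]) (γ : S[X])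
    (hu : dot α (vmap C u) = 0) (hv : dot α (vmap C v) = X * γ) :
    ∃ p : V S[X], γ = dot p (cross (vmap C u) (vmap C v)) := by
  obtain ⟨δ, hδ⟩ := hhb (vcoeff 0 α) (by rw [dot_vcoeff, hu, coeff_zero])
    (by rw [dot_vcoeff, hv]; simp)
  obtain ⟨β, hβ⟩ := exists_vdecomp α
  rw [hδ] at hβ
  subst hβ
  have hu' : dot β (vmap C u) = 0 := by
    refine (isRegular_X (R := S)).left ?_
    show X * dot β (vmap C u) = X * 0
    rw [mul_zero, ← hu]
    simp [dot, cross, sm, add', vmap]; ring
  have hv' : dot β (vmap C v) = γ := by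
    refine (isRegular_X (R := S)).left ?_
    show X * dot β (vmap C v) = X * γ
    rw [← hv]
    simp [dot, cross, sm, add', vmap]; ring
  -- Koszul on each coefficient
  choose p hp using fun n => hk (vcoeff n β) (by rw [dot_vcoeff, hu', coeff_zero])
  classical
  let N := γ.natDegree
  refine ⟨sm (-1) ⟨∑ n ∈ Finset.range (N + 1), monomial n (p n).x, ∑ n ∈ Finset.range (N + 1), monomial n (p n).y,
    ∑ n ∈ Finset.range (N + 1), monomial n (p n).z⟩, ?_⟩
  ext n
  have h1 : γ.coeff n = dot (vcoeff n β) v := by rw [dot_vcoeff, hv']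
  simp only [dot, sm, cross, vmap, ← map_mul, ← map_sub, coeff_add, coeff_mul_C, neg_mul, one_mul,
    coeff_neg, finsetSum_coeff, coeff_monomial, Finset.sum_ite_eq', Finset.mem_range]
  split_ifs with hn
  · rw [h1, hp n]; simp [dot, cross]; ring
  · rw [coeff_eq_zero_of_natDegree_lt (by omega)]; simp

/-- stage two. -/
lemma stage2 {R : Type*} [CommRing R] {u v : V R} {ℓ : R} (hhb : HB u v) (hl : ∀ a, ℓ * a = 0 → a = 0)
    (h1 : ∀ (α : V R) (γ : R), dot α u = 0 → dot α v = ℓ * γ → ∃ p, γ = dot p (cross u v)) :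
    ∀ (n : ℕ) (α : V R[X]) (γ : R[X]), γ.degree < n → dot α (vmap C u) = X * γ →
      dot α (vmap C v) = -(C ℓ * γ) → ∃ p : V R[X], γ = dot p (cross (vmap C u) (vmap C v)) := by
  intro n
  induction n with
  | zero =>
    intro α γ hd _ _
    refine ⟨⟨0, 0, 0⟩, ?_⟩
    rw [show γ = 0 from Polynomial.ext fun k => by
      rw [coeff_zero]; exact (degree_lt_iff_coeff_zero γ 0).1 hd k (Nat.zero_le k)]
    simp [dot]
  | succ n ih =>
    intro α γ hd hu hv
    obtain ⟨p0, hp0⟩ := h1 (vcoeff 0 α) (-γ.coeff 0) (by rw [dot_vcoeff, hu]; simp)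
      (by rw [dot_vcoeff, hv]; simp)
    let P : V R[X] := vmap C (sm (-1) p0)
    let Q : V R[X] := add' (sm (C ℓ) (vmap C u)) (sm X (vmap C v))
    let α1 : V R[X] := sub' α (cross Q P)
    obtain ⟨γ', hγ'⟩ : ∃ γ', γ - dot P (cross (vmap C u) (vmap C v)) = X * γ' := by
      obtain ⟨g, hg⟩ := exists_add_X_mul γ
      refine ⟨g, ?_⟩
      have : γ.coeff 0 = -dot p0 (cross u v) := by rw [← hp0, neg_neg]
      conv_lhs => rw [hg, this]
      simp [P, dot, cross, sm, vmap]
      ring
    have hu1 : dot α1 (vmap C u) = X * (X * γ') := by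
      rw [← hγ', mul_sub, ← hu]; simp [α1, Q, P, dot, cross, sm, vmap, add', sub']; ring
    have hv1 : dot α1 (vmap C v) = -(C ℓ * (X * γ')) := by
      rw [← hγ', mul_sub, neg_sub, sub_eq_add_neg (_ * dot P _), ← hv]
      simp [α1, Q, P, dot, cross, sm, vmap, add', sub']; ring
    obtain ⟨δ, hδ⟩ := hhb (vcoeff 0 α1) (by rw [dot_vcoeff, hu1]; simp) (by rw [dot_vcoeff, hv1]; simp)
    obtain ⟨β, hβ⟩ := exists_vdecomp α1
    rw [hδ] at hβ
    rw [hβ] at hu1 hv1
    have hu2 : dot β (vmap C u) = X * γ' := by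
      refine (isRegular_X (R := R)).left ?_
      show X * dot β (vmap C u) = X * (X * γ')
      rw [← hu1]; simp [dot, cross, sm, add', vmap]; ring
    have hv2 : dot β (vmap C v) = -(C ℓ * γ') := by
      refine (isRegular_X (R := R)).left ?_
      show X * dot β (vmap C v) = X * -(C ℓ * γ')
      rw [mul_neg, mul_left_comm, ← hv1]; simp [dot, cross, sm, add', vmap]; ring
    have hd' : γ'.degree < n := by
      rw [degree_lt_iff_coeff_zero] at hd ⊢
      intro k hk
      have hc := congrArg (fun f => coeff f (k + 1)) hγ'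
      simp only [coeff_sub, coeff_X_mul] at hc
      rw [← hc, hd (k + 1) (Nat.succ_le_succ hk), zero_sub, neg_eq_zero]
      simp [P, dot, cross, sm, vmap, ← map_mul, ← map_sub, coeff_C]
    obtain ⟨p', hp'⟩ := ih β γ' hd' hu2 hv2
    refine ⟨add' P (sm X p'), ?_⟩
    have : γ = dot P (cross (vmap C u) (vmap C v)) + X * γ' := by rw [← hγ']; ring
    rw [this, hp']
    simp [dot, cross, sm, add', vmap]; ring

/-- The syzygies of `Y u + X v` are Koszul relations and multiples of the minors. -/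
theorem syz {u v : V S} (hhb : HB u v) (hk : Kos u) (α : V S[X][X])
    (h : dot α (add' (sm (C (X : S[X])) (vmap C (vmap C u))) (sm (X : S[X][X]) (vmap C (vmap C v)))) = 0) :
    ∃ (p : V S[X][X]) (δ : S[X][X]),
      α = add' (cross (add' (sm (C (X : S[X])) (vmap C (vmap C u))) (sm (X : S[X][X]) (vmap C (vmap C v)))) p)
        (sm δ (cross (vmap C (vmap C u)) (vmap C (vmap C v)))) := by
  set U : V S[X][X] := vmap C (vmap C u)
  set W : V S[X][X] := vmap C (vmap C v)
  have hlX : ∀ a : S[X], X * a = 0 → a = 0 := fun a ha =>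
    (isRegular_X (R := S)).left (show X * a = X * 0 by rw [ha, mul_zero])
  have hUV : C (X : S[X]) * dot α U = -(X * dot α W) := by
    rw [← sub_eq_zero, ← h]; simp [dot, sm, add']; ring
  obtain ⟨γ, hγ⟩ : ∃ γ, dot α U = X * γ := by
    obtain ⟨g, hg⟩ := exists_add_X_mul (dot α U)
    refine ⟨g, ?_⟩
    have := congrArg (fun f => coeff f 0) hUV
    simp only [coeff_C_mul, coeff_neg, mul_coeff_zero, coeff_X_zero, zero_mul, neg_zero] at this
    rw [coeff_C_zero] at this
    have h0 : (dot α U).coeff 0 = 0 := hlX _ this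
    rw [h0, map_zero, zero_add] at hg
    exact hg
  have hγ' : dot α W = -(C X * γ) := by
    refine (isRegular_X (R := S[X])).left ?_
    show X * dot α W = X * -(C X * γ)
    rw [hγ] at hUV; linear_combination hUV
  obtain ⟨p, hp⟩ := stage2 (u := vmap C u) (v := vmap C v) (ℓ := (X : S[X])) (hb_poly hhb) hlX
    (fun a g => stage1 hhb hk a g) (γ.natDegree + 1) α γ
    (lt_of_le_of_lt degree_le_natDegree (by exact_mod_cast Nat.lt_succ_self _)) hγ hγ'
  obtain ⟨δ, hδ⟩ := hb_poly (hb_poly hhb) (sub' α (cross (add' (sm (C X) U) (sm X W)) p))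
    (show dot _ U = 0 by
      rw [show (0 : S[X][X]) = dot α U - X * dot p (cross U W) by rw [hγ, hp]; exact (sub_self _).symm]
      simp [dot, cross, sm, add', sub']; ring)
    (show dot _ W = 0 by
      rw [show (0 : S[X][X]) = dot α W + C X * dot p (cross U W) by rw [hγ', hp]; exact (neg_add_cancel _).symm]
      simp [dot, cross, sm, add', sub']; ring)
  refine ⟨p, δ, V.ext' ?_ ?_ ?_⟩
  · have := congrArg V.x hδ
    simp only [sub', add'] at this ⊢
    exact sub_eq_iff_eq_add'.1 this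
  · have := congrArg V.y hδ
    simp only [sub', add'] at this ⊢
    exact sub_eq_iff_eq_add'.1 this
  · have := congrArg V.z hδ
    simp only [sub', add'] at this ⊢
    exact sub_eq_iff_eq_add'.1 this

end Groth.Agent.Lie3
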