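import Groth.Prelude.Def_W4c1bouilletffgsL3
import Groth.Agent.Lib.Lie3Mod.Syz
import Mathlib.RingTheory.Localization.Away.Basic
import Mathlib.RingTheory.Ideal.Quotient.Operations
import Mathlib.RingTheory.Ideal.Colon
import Mathlib.Algebra.MvPolynomial.Monad
import Mathlib.Algebra.MvPolynomial.Division
import Mathlib.RingTheory.Regular.RegularSequence
import Mathlib.Tactic.FinCases

/-! The component `J` of the scheme of 3-dimensional Lie algebras. -/

namespace Groth.Agent.Lie3

open MvPolynomial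

set_option maxSynthPendingDepth 5

variable {A : Type*} [CommRing A]

/-- `x` is a non-zero-divisor -/
abbrev NZD {R : Type*} [Mul R] [Zero R] (x : R) : Prop := ∀ a : R, a * x = 0 → a = 0

section regularity

lemma nzd_C {R : Type*} [CommRing R] {x : R} (h : NZD x) : NZD (Polynomial.C x) := fun a ha =>
  Polynomial.ext fun n => h _ (by rw [← Polynomial.coeff_mul_C, ha, Polynomial.coeff_zero])

lemma nzd_polyX {R : Type*} [CommRing R] : NZD (Polynomial.X : Polynomial R) := fun a ha =>
  (Polynomial.isRegular_X (R := R)).right (show a * Polynomial.X = 0 * Polynomial.X by rw [ha, zero_mul])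

lemma nzd_X {R : Type*} [CommRing R] {σ : Type*} (i : σ) : NZD (X i : MvPolynomial σ R) := fun a ha => by
  classical
  refine MvPolynomial.ext _ _ fun m => ?_
  have := congrArg (coeff (m + Finsupp.single i 1)) ha
  simpa [coeff_mul_X] using this

lemma nzd_mul {R : Type*} [CommRing R] {x y : R} (hx : NZD x) (hy : NZD y) : NZD (x * y) := fun a ha =>
  hx a (hy _ (by rw [mul_assoc]; exact ha))

lemma nzd_of_top_coeff {R : Type*} [CommRing R] {f : Polynomial R} (n : ℕ) (hd : f.natDegree ≤ n)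
    (h : NZD (f.coeff n)) : NZD f := fun a ha => by
  by_contra ha0
  have hlc := congrArg (fun g => Polynomial.coeff g (a.natDegree + n)) ha
  simp only [Polynomial.coeff_zero, Polynomial.coeff_mul_add_eq_of_natDegree_le le_rfl hd] at hlc
  exact ha0 (Polynomial.leadingCoeff_eq_zero.1 (h _ hlc))

end regularity

variable (A)

/-- coefficient ring `A[g,b,c,e]` -/
abbrev T0 := MvPolynomial (Fin 4) A
/-- `A[g,b,c,e][h][i]` -/
abbrev S0 := Polynomial (Polynomial (T0 A))
/-- `S0[Y][X]` -/
abbrev R2 := Polynomial (Polynomial (S0 A))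

namespace S0
open Polynomial in
noncomputable def g : S0 A := C (C (MvPolynomial.X 0))
open Polynomial in
noncomputable def b : S0 A := C (C (MvPolynomial.X 1))
open Polynomial in
noncomputable def c : S0 A := C (C (MvPolynomial.X 2))
open Polynomial in
noncomputable def e : S0 A := C (C (MvPolynomial.X 3))
open Polynomial in
noncomputable def h : S0 A := C Polynomial.X
open Polynomial in
noncomputable def i : S0 A := Polynomial.X
end S0

noncomputable def uv : V (S0 A) := ⟨-S0.g A, -S0.h A, -S0.i A⟩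
noncomputable def vv : V (S0 A) := ⟨S0.i A, S0.b A, S0.c A⟩

lemma kos_uv : Kos (uv A) := by
  have key : Kos (⟨S0.i A, S0.h A, S0.g A⟩ : V (S0 A)) := by
    refine kos_of_seq nzd_polyX (fun a ha => ?_) (fun a => ?_)
    · rw [S0.i, Polynomial.X_dvd_iff] at ha ⊢
      rw [S0.h, Polynomial.coeff_mul_C] at ha
      exact nzd_polyX _ ha
    · rintro ⟨s, t, hst⟩
      have h1 := congrArg (fun f => (Polynomial.coeff f 0).coeff 0) hst
      simp [S0.i, S0.h, S0.g, Polynomial.mul_coeff_zero] at h1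
      have h2 : (Polynomial.coeff a 0).coeff 0 = 0 := h1
      obtain ⟨b1, hb1⟩ := exists_add_X_mul a
      obtain ⟨b2, hb2⟩ := exists_add_X_mul (Polynomial.coeff a 0)
      rw [h2, map_zero, zero_add] at hb2
      refine ⟨b1, Polynomial.C b2, ?_⟩
      simp only [S0.i, S0.h]
      conv_lhs => rw [hb1, hb2, map_mul]
      ring
  rintro ⟨a1, a2, a3⟩ hα
  obtain ⟨p, hp⟩ := key ⟨a3, a2, a1⟩ (by simp [dot, uv] at hα ⊢; linear_combination -hα)
  have hx := congrArg V.x hp
  have hy := congrArg V.y hp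
  have hz := congrArg V.z hp
  simp only [cross] at hx hy hz
  refine ⟨⟨p.z, p.y, p.x⟩, V.ext' ?_ ?_ ?_⟩ <;> simp only [cross, uv]
  · linear_combination hz
  · linear_combination hy
  · linear_combination hx

lemma hb_uv : HB (uv A) (vv A) := by
  have hy : (cross (uv A) (vv A)).y =
      -(Polynomial.X ^ 2 - Polynomial.C (Polynomial.C (X 0 * X 2 : T0 A))) := by
    simp [cross, uv, vv, S0.g, S0.h, S0.i, S0.b, S0.c]; ring
  have hx : (cross (uv A) (vv A)).x =
      Polynomial.C (Polynomial.C (X 1 : T0 A)) * Polynomial.X - Polynomial.C (Polynomial.X * Polynomial.C (X 2 : T0 A)) := by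
    simp [cross, uv, vv, S0.g, S0.h, S0.i, S0.b, S0.c]; ring
  let r : Polynomial (T0 A) := Polynomial.C (X 0 * X 2)
  let P : S0 A := Polynomial.X ^ 2 - Polynomial.C r
  have hP : P.Monic := Polynomial.monic_X_pow_sub_C _ two_ne_zero
  refine hb_of_pair (fun a ha => ?_) (fun a ha => ?_)
  · rw [hy, mul_neg, neg_eq_zero] at ha
    exact (mul_comm a P ▸ ha : P * a = 0) |> fun h => hP.mul_right_eq_zero_iff.1 h
  · rw [hy, neg_dvd, hx] at ha
    rw [hy, neg_dvd]
    rcases subsingleton_or_nontrivial A with hA | hA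
    · exact ⟨0, Subsingleton.elim _ _⟩
    rw [show Polynomial.X ^ 2 - Polynomial.C (Polynomial.C (X 0 * X 2 : T0 A)) = P from rfl] at ha ⊢
    obtain ⟨q, hq⟩ := ha
    have hdec := Polynomial.modByMonic_add_div a P
    have hdeg : (a %ₘ P).natDegree < 2 := by
      have h2 : P.natDegree = 2 := Polynomial.natDegree_X_pow_sub_C
      have := Polynomial.natDegree_modByMonic_lt a hP (fun h => by rw [h, Polynomial.natDegree_one] at h2; omega)
      rwa [h2] at this
    obtain ⟨q0, p0, hpq⟩ := Polynomial.exists_eq_X_add_C_of_natDegree_le_one (show (a %ₘ P).natDegree ≤ 1 by omega)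
    let w : Polynomial (T0 A) := Polynomial.C (X 1)
    let z : Polynomial (T0 A) := Polynomial.X * Polynomial.C (X 2)
    have hdvd : P ∣ Polynomial.C (w * p0 - z * q0) * Polynomial.X + Polynomial.C (w * q0 * r - z * p0) := by
      refine ⟨q - (Polynomial.C w * Polynomial.X - Polynomial.C z) * (a /ₘ P) - Polynomial.C (w * q0), ?_⟩
      have : a * (Polynomial.C w * Polynomial.X - Polynomial.C z) = P * q := hq
      rw [← hdec, hpq] at this
      simp only [map_sub, map_mul] at this ⊢
      simp only [P] at this ⊢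
      linear_combination this
    have hzero : Polynomial.C (w * p0 - z * q0) * Polynomial.X + Polynomial.C (w * q0 * r - z * p0) = 0 := by
      obtain ⟨s, hs⟩ := hdvd
      by_contra hne
      have : s ≠ 0 := fun h => hne (by rw [hs, h, mul_zero])
      have hd := hP.natDegree_mul' this
      rw [← hs, show P.natDegree = 2 from Polynomial.natDegree_X_pow_sub_C] at hd
      have := Polynomial.natDegree_linear_le (a := w * p0 - z * q0) (b := w * q0 * r - z * p0)
      omega
    have e1 : w * p0 - z * q0 = 0 := by simpa using congrArg (fun f => Polynomial.coeff f 1) hzero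
    have e0 : w * q0 * r - z * p0 = 0 := by simpa using congrArg (fun f => Polynomial.coeff f 0) hzero
    have hdet : NZD (z * z - w * w * r) := by
      refine nzd_of_top_coeff 2 ?_ ?_
      · simp only [z, w, r]
        refine (Polynomial.natDegree_sub_le _ _).trans (max_le ?_ ?_)
        · refine Polynomial.natDegree_mul_le.trans (Nat.add_le_add ?_ ?_ : _ ≤ 1 + 1) <;>
            exact Polynomial.natDegree_mul_le.trans (Nat.add_le_add Polynomial.natDegree_X_le (Polynomial.natDegree_C _).le : _ ≤ 1 + 0)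
        · rw [← map_mul, ← map_mul, Polynomial.natDegree_C]; omega
      · have : (z * z - w * w * r).coeff 2 = (X 2 * X 2 : T0 A) := by
          simp only [z, w, r]
          rw [show Polynomial.X * Polynomial.C (X 2 : T0 A) * (Polynomial.X * Polynomial.C (X 2)) = Polynomial.C (X 2 * X 2) * Polynomial.X ^ 2 by rw [map_mul]; ring]
          rw [← map_mul, ← map_mul, Polynomial.coeff_sub, Polynomial.coeff_C_mul_X_pow, Polynomial.coeff_C]
          simp
        rw [this]
        exact nzd_mul (nzd_X 2) (nzd_X 2)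
    have hp : p0 = 0 := hdet _ (by linear_combination (-z) * e0 + (-(w * r)) * e1)
    have hq0 : q0 = 0 := hdet _ (by linear_combination (-(w)) * e0 + (-z) * e1)
    rw [hp, hq0] at hpq
    exact (Polynomial.modByMonic_eq_zero_iff_dvd hP).1 (by simpa using hpq)

/-! ### reduction modulo `L1` -/

open Lie3Mod

noncomputable def psiVal : Fin 9 → R2 A :=
  ![Polynomial.C (Polynomial.C (S0.i A)), Polynomial.C (Polynomial.C (S0.b A)),
    Polynomial.C (Polynomial.C (S0.c A)), Polynomial.X - Polynomial.C (Polynomial.C (S0.h A)),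
    Polynomial.C (Polynomial.C (S0.e A)), Polynomial.C Polynomial.X - Polynomial.C (Polynomial.C (S0.b A)),
    Polynomial.C (Polynomial.C (S0.g A)), Polynomial.C (Polynomial.C (S0.h A)),
    Polynomial.C (Polynomial.C (S0.i A))]

noncomputable def psi : D A →ₐ[A] R2 A := aeval (psiVal A)

noncomputable def sigma : R2 A →+* D A :=
  Polynomial.eval₂RingHom (Polynomial.eval₂RingHom (Polynomial.eval₂RingHom (Polynomial.eval₂RingHom
    (aeval ![X 6, X 1, X 2, X 4] : T0 A →ₐ[A] D A).toRingHom (X 7)) (X 8)) (X 1 + X 5)) (X 3 + X 7)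

lemma sigma_psi (x : D A) : ∃ y, x = sigma A (psi A x) + L1 A * y := by
  have h : ∀ x : D A, x - sigma A (psi A x) ∈ Ideal.span {L1 A} := by
    intro x
    rw [← Ideal.Quotient.eq]
    refine RingHom.congr_fun (g := (Ideal.Quotient.mk (Ideal.span {L1 A})).comp ((sigma A).comp (psi A).toRingHom))
      (MvPolynomial.ringHom_ext (fun a => ?_) (fun j => ?_)) x
    · simp [sigma, psi]
    · show _ = Ideal.Quotient.mk _ (sigma A (psi A (X j)))
      rw [Ideal.Quotient.eq, Ideal.mem_span_singleton]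
      fin_cases j <;> simp [sigma, psi, psiVal, S0.g, S0.b, S0.c, S0.e, S0.h, S0.i, L1]
  obtain ⟨y, hy⟩ := Ideal.mem_span_singleton.1 (h x)
  exact ⟨y, eq_add_of_sub_eq' hy⟩

lemma psi_L1 : psi A (L1 A) = 0 := by simp [psi, psiVal, L1]

variable {A}

lemma mem_span_triple {x p q r : D A} :
    x ∈ Ideal.span {p, q, r} ↔ ∃ a b c, x = a * p + b * q + c * r := by
  simp only [Ideal.mem_span_insert, Ideal.mem_span_singleton']
  constructor
  · rintro ⟨a, _, ⟨b, _, ⟨c, rfl⟩, rfl⟩, rfl⟩; exact ⟨a, b, c, by ring⟩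
  · rintro ⟨a, b, c, rfl⟩; exact ⟨a, _, ⟨b, _, ⟨c, rfl⟩, rfl⟩, by ring⟩

lemma idI_le_idJ : idI A ≤ idJ A :=
  Ideal.span_mono (by intro x; simp; tauto)

lemma idI_le_idL : idI A ≤ idL A := by
  refine Ideal.span_le.2 fun x hx => mem_span_triple.2 ?_
  simp only [Set.mem_insert_iff, Set.mem_singleton_iff] at hx
  rcases hx with rfl | rfl | rfl
  · exact ⟨X 7, -X 6, X 8, by simp [Q1, L1, L2, L3]; ring⟩
  · exact ⟨-X 4, -X 7, X 1, by simp [Q2, L1, L2, L3]; ring⟩
  · exact ⟨-X 5, -X 8, X 2, by simp [Q3, L1, L2, L3]; ring⟩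

lemma detM_mul_mem {y : D A} (hy : y ∈ idL A) : detM A * y ∈ idI A := by
  obtain ⟨a, b, c, rfl⟩ := mem_span_triple.1 hy
  refine mem_span_triple.2
    ⟨a * (X 8 * X 1 - X 7 * X 2) + b * (X 4 * X 2 - X 5 * X 1) + c * (X 4 * X 8 - X 5 * X 7),
     a * (X 6 * X 2 - X 8 * X 8) + b * (X 7 * X 2 + X 8 * X 5) + c * (X 7 * X 8 + X 6 * X 5),
     a * (X 8 * X 7 - X 6 * X 1) + b * (-(X 8 * X 4) - X 7 * X 1) + c * (-(X 7 * X 7) - X 6 * X 4), ?_⟩
  simp [detM, Q1, Q2, Q3, L1, L2, L3]
  ring

lemma mem_idJ_iff {x : D A} : x ∈ idJ A ↔ ∃ i ∈ idI A, ∃ m, x = i + m * detM A := by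
  constructor
  · intro hx
    have : idJ A ≤ idI A ⊔ Ideal.span {detM A} := by
      refine Ideal.span_le.2 fun y hy => ?_
      simp only [Set.mem_insert_iff, Set.mem_singleton_iff] at hy
      rcases hy with h | h | h | h
      · exact Ideal.mem_sup_left (Ideal.subset_span (by simp [h]))
      · exact Ideal.mem_sup_left (Ideal.subset_span (by simp [h]))
      · exact Ideal.mem_sup_left (Ideal.subset_span (by simp [h]))
      · exact Ideal.mem_sup_right (Ideal.subset_span (by simp [h]))
    obtain ⟨i, hi, z, hz, rfl⟩ := Submodule.mem_sup.1 (this hx)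
    obtain ⟨m, rfl⟩ := Ideal.mem_span_singleton'.1 hz
    exact ⟨i, hi, m, rfl⟩
  · rintro ⟨i, hi, m, rfl⟩
    exact add_mem (idI_le_idJ hi) (Ideal.mul_mem_left _ _ (Ideal.subset_span (by simp)))

lemma detM_mem_idJ : detM A ∈ idJ A := Ideal.subset_span (by simp)

variable (A)

noncomputable def redVal : Fin 9 → S0 A :=
  ![S0.i A, S0.b A, S0.c A, -S0.h A, S0.e A, -S0.b A, S0.g A, S0.h A, S0.i A]

noncomputable def red : D A →ₐ[A] S0 A := aeval (redVal A)

noncomputable def redInv : S0 A →+* D A :=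
  Polynomial.eval₂RingHom (Polynomial.eval₂RingHom
    (aeval ![X 6, X 1, X 2, X 4] : T0 A →ₐ[A] D A).toRingHom (X 7)) (X 8)

lemma ker_red : RingHom.ker (red A) = idL A := by
  apply le_antisymm
  · intro x hx
    have h : ∀ x : D A, x - redInv A (red A x) ∈ idL A := by
      intro x
      rw [← Ideal.Quotient.eq]
      refine RingHom.congr_fun (g := (Ideal.Quotient.mk (idL A)).comp ((redInv A).comp (red A).toRingHom))
        (MvPolynomial.ringHom_ext (fun a => ?_) (fun j => ?_)) x
      · simp [redInv, red]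
      · show _ = Ideal.Quotient.mk _ (redInv A (red A (X j)))
        rw [Ideal.Quotient.eq]
        refine mem_span_triple.2 ?_
        fin_cases j <;> simp [redInv, red, redVal, S0.g, S0.b, S0.c, S0.e, S0.h, S0.i, L1, L2, L3]
        all_goals first
          | (refine ⟨0, 0, 0, ?_⟩; ring1)
          | (refine ⟨1, 0, 0, ?_⟩; ring1)
          | (refine ⟨0, 1, 0, ?_⟩; ring1)
          | (refine ⟨0, 0, 1, ?_⟩; ring1)
    have := h x
    rwa [RingHom.mem_ker.1 hx, map_zero, sub_zero] at this
  · refine Ideal.span_le.2 fun x hx => ?_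
    simp only [Set.mem_insert_iff, Set.mem_singleton_iff] at hx
    rcases hx with rfl | rfl | rfl <;> simp [red, redVal, L1, L2, L3]

lemma nzd_red_detM : NZD (red A (detM A)) := by
  have e : red A (detM A) = Polynomial.C (Polynomial.C (X 3 : T0 A)) * Polynomial.X ^ 2 +
      Polynomial.C (Polynomial.C (X 1 + X 1 : T0 A) * Polynomial.X) * Polynomial.X +
      Polynomial.C (-(Polynomial.C (X 2 : T0 A) * Polynomial.X ^ 2) - Polynomial.C (X 0 * X 1 * X 1 + X 0 * X 3 * X 2 : T0 A)) := by
    simp [detM, red, redVal, S0.g, S0.b, S0.c, S0.e, S0.h, S0.i]; ring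
  rw [e]
  refine nzd_of_top_coeff 2 Polynomial.natDegree_quadratic_le ?_
  rw [Polynomial.coeff_add, Polynomial.coeff_add, Polynomial.coeff_C_mul_X_pow, Polynomial.coeff_C_mul_X,
    Polynomial.coeff_C, if_pos rfl, if_neg (by norm_num), if_neg (by norm_num), add_zero, add_zero]
  exact nzd_C (nzd_X 3)

variable {A}

lemma mem_idL_of_mul_detM {m : D A} (h : m * detM A ∈ idL A) : m ∈ idL A := by
  rw [← ker_red, RingHom.mem_ker, map_mul] at h
  rw [← ker_red, RingHom.mem_ker]
  exact nzd_red_detM A _ h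

variable (A)

lemma nzd_L1 : NZD (L1 A) := by
  -- the automorphism `a ↦ a + i` sends `L1` to `a`
  intro x hx
  let τ : D A →ₐ[A] D A := aeval (fun j => if j = 0 then X 0 + X 8 else X j)
  let τ' : D A →ₐ[A] D A := aeval (fun j => if j = 0 then X 0 - X 8 else X j)
  have hττ : ∀ y, τ' (τ y) = y := fun y => by
    have : τ'.comp τ = AlgHom.id A _ := algHom_ext fun j => by
      by_cases hj : j = 0 <;> simp [τ, τ', hj]
    exact AlgHom.congr_fun this y
  have h1 : τ (L1 A) = X 0 := by simp [τ, L1]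
  have := congrArg τ hx
  rw [map_mul, h1, map_zero] at this
  rw [← hττ x, nzd_X 0 _ this, map_zero]

variable {A}

theorem mem_idJ_of_mul_L1_mem_idI {x : D A} (h : x * L1 A ∈ idI A) : x ∈ idJ A := by
  obtain ⟨a1, a2, a3, hx⟩ := mem_span_triple.1 h
  have hψ : dot (⟨psi A a1, psi A a2, psi A a3⟩ : V (R2 A))
      (add' (sm (Polynomial.C Polynomial.X) (vmap Polynomial.C (vmap Polynomial.C (uv A))))
        (sm Polynomial.X (vmap Polynomial.C (vmap Polynomial.C (vv A))))) = 0 := by
    have := congrArg (psi A) hx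
    rw [map_mul, psi_L1, mul_zero] at this
    rw [this]
    simp [psi, psiVal, Q1, Q2, Q3, dot, add', sm, vmap, uv, vv]
    ring
  obtain ⟨p, δ, hp⟩ := syz (hb_uv A) (kos_uv A) _ hψ
  have hU : (add' (sm (Polynomial.C (Polynomial.X : Polynomial (S0 A))) (vmap Polynomial.C (vmap Polynomial.C (uv A))))
        (sm (Polynomial.X : R2 A) (vmap Polynomial.C (vmap Polynomial.C (vv A))))) =
      (⟨psi A (Q1 A), psi A (Q2 A), psi A (Q3 A)⟩ : V (R2 A)) :=
    V.ext' (by simp [psi, psiVal, Q1, add', sm, vmap, uv, vv]; ring)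
      (by simp [psi, psiVal, Q2, add', sm, vmap, uv, vv]; ring)
      (by simp [psi, psiVal, Q3, add', sm, vmap, uv, vv]; ring)
  have hM : cross (vmap Polynomial.C (vmap Polynomial.C (uv A))) (vmap Polynomial.C (vmap Polynomial.C (vv A))) =
      (⟨psi A (X 8 * X 1 - X 7 * X 2), psi A (X 6 * X 2 - X 8 * X 8), psi A (X 8 * X 7 - X 6 * X 1)⟩ : V (R2 A)) :=
    V.ext' (by simp [psi, psiVal, cross, vmap, uv, vv]; ring)
      (by simp [psi, psiVal, cross, vmap, uv, vv]; ring)
      (by simp [psi, psiVal, cross, vmap, uv, vv]; ring)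
  rw [hU, hM] at hp
  let P : V (D A) := ⟨sigma A p.x, sigma A p.y, sigma A p.z⟩
  let d : D A := sigma A δ
  let m : V (D A) := ⟨X 8 * X 1 - X 7 * X 2, X 6 * X 2 - X 8 * X 8, X 8 * X 7 - X 6 * X 1⟩
  let β : V (D A) := add' (cross ⟨Q1 A, Q2 A, Q3 A⟩ P) (sm d m)
  have hsec : ∀ y : R2 A, psi A (sigma A y) = y := by
    intro y
    refine RingHom.congr_fun (f := (psi A).toRingHom.comp (sigma A)) (g := RingHom.id _)
      (Polynomial.ringHom_ext (fun s => RingHom.congr_fun (f := ((psi A).toRingHom.comp (sigma A)).comp Polynomial.C) (g := Polynomial.C)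
        (Polynomial.ringHom_ext (fun s => RingHom.congr_fun (f := (((psi A).toRingHom.comp (sigma A)).comp Polynomial.C).comp Polynomial.C) (g := Polynomial.C.comp Polynomial.C)
          (Polynomial.ringHom_ext (fun s => RingHom.congr_fun (f := ((((psi A).toRingHom.comp (sigma A)).comp Polynomial.C).comp Polynomial.C).comp Polynomial.C) (g := (Polynomial.C.comp Polynomial.C).comp Polynomial.C)
            (Polynomial.ringHom_ext (fun s => RingHom.congr_fun (f := (((((psi A).toRingHom.comp (sigma A)).comp Polynomial.C).comp Polynomial.C).comp Polynomial.C).comp Polynomial.C) (g := ((Polynomial.C.comp Polynomial.C).comp Polynomial.C).comp Polynomial.C)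
              (MvPolynomial.ringHom_ext (fun a => ?_) (fun j => ?_)) s) ?_) s) ?_) s) ?_) s) ?_) y
    · simp [sigma, psi]
    · fin_cases j <;> simp [sigma, psi, psiVal, S0.g, S0.b, S0.c, S0.e]
    · simp [sigma, psi, psiVal, S0.h]
    · simp [sigma, psi, psiVal, S0.i]
    · simp [sigma, psi, psiVal, S0.b]
    · simp [sigma, psi, psiVal, S0.h]
  obtain ⟨y1, hy1⟩ := sigma_psi A (a1 - β.x)
  obtain ⟨y2, hy2⟩ := sigma_psi A (a2 - β.y)
  obtain ⟨y3, hy3⟩ := sigma_psi A (a3 - β.z)
  have hx1 := congrArg V.x hp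
  have hx2 := congrArg V.y hp
  have hx3 := congrArg V.z hp
  simp only [add', cross, sm] at hx1 hx2 hx3
  rw [show psi A (a1 - β.x) = 0 by simp [β, P, d, m, add', cross, sm, hsec, hx1], map_zero, zero_add] at hy1
  rw [show psi A (a2 - β.y) = 0 by simp [β, P, d, m, add', cross, sm, hsec, hx2], map_zero, zero_add] at hy2
  rw [show psi A (a3 - β.z) = 0 by simp [β, P, d, m, add', cross, sm, hsec, hx3], map_zero, zero_add] at hy3
  have key : (x - (d * detM A + (y1 * Q1 A + y2 * Q2 A + y3 * Q3 A))) * L1 A = 0 := by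
    have e : β.x * Q1 A + β.y * Q2 A + β.z * Q3 A = d * detM A * L1 A := by
      simp [β, P, m, add', cross, sm, detM, Q1, Q2, Q3, L1]; ring
    linear_combination hx + Q1 A * hy1 + Q2 A * hy2 + Q3 A * hy3 + e
  rw [sub_eq_zero.1 (nzd_L1 A _ key)]
  exact mem_idJ_iff.2 ⟨_, mem_span_triple.2 ⟨y1, y2, y3, rfl⟩, d, add_comm _ _⟩

theorem mem_idJ_of_mul_L1_mem {x : D A} (h : x * L1 A ∈ idJ A) : x ∈ idJ A := by
  obtain ⟨i, hi, m, hm⟩ := mem_idJ_iff.1 h
  have hL : m * detM A ∈ idL A := by
    rw [show m * detM A = x * L1 A - i by rw [hm]; ring]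
    exact sub_mem (Ideal.mul_mem_left _ _ (Ideal.subset_span (by simp))) (idI_le_idL hi)
  apply mem_idJ_of_mul_L1_mem_idI
  rw [hm, mul_comm m]
  exact add_mem hi (detM_mul_mem (mem_idL_of_mul_detM hL))

variable (A)

theorem inf_idJ_idL : idJ A ⊓ idL A = idI A := by
  refine le_antisymm ?_ (le_inf idI_le_idJ idI_le_idL)
  rintro x ⟨hJ, hL⟩
  obtain ⟨i, hi, m, rfl⟩ := mem_idJ_iff.1 hJ
  rw [mul_comm m]
  exact add_mem hi (detM_mul_mem (mem_idL_of_mul_detM ((Submodule.add_mem_iff_right _ (idI_le_idL hi)).1 hL)))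

theorem colon_idL : (idI A).colon (idL A : Set (D A)) = idJ A := by
  ext x
  rw [Submodule.mem_colon]
  constructor
  · intro h
    exact mem_idJ_of_mul_L1_mem_idI (h _ (Ideal.subset_span (by simp)))
  · intro hx p hp
    obtain ⟨i, hi, m, rfl⟩ := mem_idJ_iff.1 hx
    rw [smul_eq_mul, add_mul, mul_assoc]
    exact add_mem (Ideal.mul_mem_right _ _ hi) (Ideal.mul_mem_left _ _ (detM_mul_mem hp))

theorem colon_idJ : (idI A).colon (idJ A : Set (D A)) = idL A := by
  ext x
  rw [Submodule.mem_colon]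
  constructor
  · intro h
    exact mem_idL_of_mul_detM (idI_le_idL (h _ detM_mem_idJ))
  · intro hx p hp
    obtain ⟨i, hi, m, rfl⟩ := mem_idJ_iff.1 hp
    rw [smul_eq_mul, mul_add, mul_comm m, ← mul_assoc, mul_comm x (detM A)]
    exact add_mem (Ideal.mul_mem_left _ _ hi) (Ideal.mul_mem_right _ _ (detM_mul_mem hx))

end Groth.Agent.Lie3
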